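import Cfsg.Agent.U4R.Top
import Cfsg.Agent.S1265
import Cfsg.Agent.Solv.Core

/-! Groups of `U4(3)` type (helper24): `u43_type` (the hypothesis gives the amalgam `Amal`). -/

set_option autoImplicit false
set_option maxRecDepth 100000

namespace Cfsg.Agent.U4R

open Cfsg.Agent.HJ Cfsg.Agent.LES Cfsg.Agent.Comp Cfsg.Agent.Spor Subgroup Matrix MatrixGroups

/-- An element of order three. -/
def mX : SL(2, ZMod 3) := ⟨!![1, 1; 0, 1], by decide⟩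
/-- An element of order four. -/
def mI : SL(2, ZMod 3) := ⟨!![0, 1; 2, 0], by decide⟩

theorem sl_words (a b c d : ZMod 3) (h : a * d - b * c = 1) : (∃ w ∈ [[], [0], [1], [0, 0], [1, 0], [0, 1], [1, 1], [1, 0, 0],
    [0, 1, 0], [1, 1, 0], [0, 0, 1], [1, 0, 1], [1, 1, 1], [0, 1, 0, 0], [1, 1, 0, 0], [0, 0, 1, 0], [1, 0, 1, 0], [1, 1, 1, 0],
    [0, 1, 0, 1], [1, 1, 0, 1], [0, 0, 1, 0, 0], [1, 0, 1, 0, 0], [1, 1, 0, 1, 0], [0, 0, 1, 0, 1]],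
    ev (scons mX.1 fun _ => mI.1) w = !![a, b; c, d]) ∧
    (!![a, b; c, d] * !![a, b; c, d] = 1 → !![a, b; c, d] = 1 ∨ !![a, b; c, d] = mI.1 * mI.1) := by
  revert a b c d; decide +kernel

variable {G : Type*} [Group G]

theorem sl_gen {H : Subgroup G} (e : H ≃* SL(2, ZMod 3)) {z : G} (hz : z ∈ H) (zz : z * z = 1) (z1 : z ≠ 1) :
    ∃ x ∈ H, ∃ i ∈ H, (x * x * x = 1 ∧ i * i = z ∧ x * i * (x * i) * (x * i) = 1) ∧ H ≤ closure {x, i} := by
  let φ : SL(2, ZMod 3) →* G := H.subtype.comp e.symm.toMonoidHom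
  have W := fun M : SL(2, ZMod 3) => sl_words (M.1 0 0) (M.1 0 1) (M.1 1 0) (M.1 1 1) (det_fin_two M.1 ▸ M.2)
  simp only [← eta_fin_two] at W
  have hφ : ∀ h : H, φ (e h) = h := fun h => by simp [φ]
  refine ⟨φ mX, (e.symm mX).2, φ mI, (e.symm mI).2, ⟨?_, ?_, ?_⟩, fun h hh => ?_⟩
  · rw [← map_mul, ← map_mul, show mX * mX * mX = 1 by decide +kernel, map_one]
  · have : e ⟨z, hz⟩ * e ⟨z, hz⟩ = 1 := by rw [← map_mul, ← map_one e]; exact congrArg e (Subtype.ext zz)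
    rcases (W (e ⟨z, hz⟩)).2 (congrArg Subtype.val this) with h | h
    · exact absurd ((hφ ⟨z, hz⟩).symm.trans ((congrArg φ (Subtype.ext h)).trans (map_one φ))) z1
    · rw [← map_mul, ← show e ⟨z, hz⟩ = mI * mI from Subtype.ext h, hφ]
  · simp only [← map_mul]; rw [show mX * mI * (mX * mI) * (mX * mI) = 1 by decide +kernel, map_one]
  · obtain ⟨w, -, hw⟩ := (W (e ⟨h, hh⟩)).1
    have : ∀ w : List ℕ, ∃ M : SL(2, ZMod 3), M.1 = ev (scons mX.1 fun _ => mI.1) w ∧ φ M ∈ closure {φ mX, φ mI} := fun w => by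
      induction w with
      | nil => exact ⟨1, rfl, by rw [map_one]; exact one_mem _⟩
      | cons i w ih =>
        obtain ⟨M, h1, h2⟩ := ih
        rcases i with _ | i
        · exact ⟨M * mX, congrArg (· * mX.1) h1, by rw [map_mul]; exact mul_mem h2 (subset_closure (by simp))⟩
        · exact ⟨M * mI, congrArg (· * mI.1) h1, by rw [map_mul]; exact mul_mem h2 (subset_closure (by simp))⟩
    obtain ⟨M, h1, h2⟩ := this w
    rwa [show M = e ⟨h, hh⟩ from Subtype.ext (h1.trans hw), hφ] at h2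

theorem comm3 {a b z : G} (zz : z * z = 1) (az : Commute a z) (a3 : a * a * a = 1) (z1 : z ≠ 1)
    (h : κ a b * b⁻¹ = 1 ∨ κ a b * b⁻¹ = z) : Commute a b := by
  rcases h with h | h
  · exact cj_eq.1 (mul_inv_eq_one.1 h)
  · have e : κ a b = z * b := mul_inv_eq_iff_eq_mul.1 h
    have : κ (a * a * a) b = z * b := by
      rw [cj_mul, cj_mul, e, map_mul, map_mul, e, map_mul, e, cj_eq.2 az.eq, cj_eq.2 az.eq, Invol.mul_self_cancel zz]
    rw [a3, map_one] at this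
    exact absurd (by simpa using this) z1

theorem u43_type [Finite G] {z : G} (hz : orderOf z = 2) (H₁ H₂ : Subgroup (centralizer ({z} : Set G)))
    (hn₁ : (H₁.subgroupOf (H₁ ⊔ H₂)).Normal) (hn₂ : (H₂.subgroupOf (H₁ ⊔ H₂)).Normal) (e₁ : H₁ ≃* SL(2, ZMod 3))
    (e₂ : H₂ ≃* SL(2, ZMod 3)) (hmeet : (H₁ ⊓ H₂).map (centralizer ({z} : Set G)).subtype = zpowers z)
    (Q : Subgroup (centralizer ({z} : Set G))) [hN : Q.Normal] (hQ : Q = (pCore 2 ↥(H₁ ⊔ H₂)).map (H₁ ⊔ H₂).subtype)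
    (hF : generalizedFittingSubgroup (centralizer ({z} : Set G)) = Q)
    (hnwc : ∃ g : G, (∃ hq : g * z * g⁻¹ ∈ centralizer ({z} : Set G),
      (⟨g * z * g⁻¹, hq⟩ : centralizer ({z} : Set G)) ∈ Q) ∧ g * z * g⁻¹ ≠ z)
    (hH : Nat.card (centralizer ({z} : Set G)) = 2 ^ 7 * 3 ^ 2)
    (hQQg : ∀ g : G, g * z * g⁻¹ ∈ Q.map (centralizer ({z} : Set G)).subtype → g * z * g⁻¹ ≠ z →
      Nat.card ↥(Q.map (centralizer ({z} : Set G)).subtype ⊓
        (Q.map (centralizer ({z} : Set G)).subtype).map (MulAut.conj g).toMonoidHom) = 4) :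
    ∃ x y p r q s a b v, Amal x y p r q s z a b v := by
  have zz := Invol.mul_self_of hz
  have z1 := Invol.ne_one_of hz
  have inj := subtype_injective (centralizer ({z} : Set G))
  obtain ⟨z', hz', ez⟩ : z ∈ (H₁ ⊓ H₂).map (centralizer ({z} : Set G)).subtype := hmeet ▸ mem_zpowers z
  have zz' : z' * z' = 1 := inj (by rw [map_mul, ez, zz, map_one])
  have z1' : z' ≠ 1 := fun h => z1 (by rw [← ez, h, map_one])
  have cz : ∀ c : centralizer ({z} : Set G), Commute c z' := fun c => inj (by rw [map_mul, map_mul, ez]; exact memC.1 c.2)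
  obtain ⟨x, hx, i, hi, h1, g1⟩ := sl_gen e₁ hz'.1 zz' z1'
  obtain ⟨y, hy, k, hk, h2, g2⟩ := sl_gen e₂ hz'.2 zz' z1'
  have cm : ∀ a ∈ H₁, ∀ b ∈ H₂, κ a b * b⁻¹ = 1 ∨ κ a b * b⁻¹ = z' := fun a ha b hb => by
    have m1 : κ a b * b⁻¹ ∈ H₁ := by
      rw [show κ a b * b⁻¹ = a * (b * a⁻¹ * b⁻¹) by simp [mul_assoc]]
      exact mul_mem ha (hn₁.conj_mem ⟨a⁻¹, mem_sup_left (inv_mem ha)⟩ (inv_mem ha) ⟨b, mem_sup_right hb⟩)
    have m2 : κ a b * b⁻¹ ∈ H₂ := mul_mem (hn₂.conj_mem ⟨b, mem_sup_right hb⟩ hb ⟨a, mem_sup_left ha⟩) (inv_mem hb)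
    exact ((mem_zp hz).1 (hmeet ▸ mem_map_of_mem _ ⟨m1, m2⟩)).imp (fun h => inj h) fun h => inj (h.trans ez.symm)
  have c3 := fun a ha b hb h => comm3 zz' (cz a) h z1' (cm a ha b hb)
  have ci : ∀ b ∈ H₂, Commute i b := fun b hb => by
    simpa only [inv_mul_cancel_left] using (c3 x hx b hb h1.1).inv_left.mul_left (c3 _ (mul_mem hx hi) b hb h1.2.2)
  obtain ⟨p, r, q, s, L, e1, e2, m1, m2, m3, m4⟩ := KL.of_sl z1' zz' h1 h2 (cz x) (cz y) (c3 x hx y hy h1.1)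
    (c3 x hx k hk h1.1) (ci y hy) (ci k hk)
  have hKK : genL (lets x y p r q s z' 1 1 1) (List.range 9) = H₁ ⊔ H₂ := by
    have l : closure {x, i, y, k} ≤ H₁ ⊔ H₂ := (closure_le _).2 (by
      rintro _ (rfl | rfl | rfl | rfl); exacts [mem_sup_left hx, mem_sup_left hi, mem_sup_right hy, mem_sup_right hk])
    refine le_antisymm (genL_le fun j hj => ?_) (sup_le (g1.trans ((closure_le _).2 ?_)) (g2.trans ((closure_le _).2 ?_)))
    · have := List.mem_range.1 hj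
      interval_cases j
      exacts [mem_sup_left hx, inv_mem (mem_sup_left hx), mem_sup_right hy, inv_mem (mem_sup_right hy), l m1, l m2, l m3, l m4,
        mem_sup_left hz'.1]
    · rintro _ (rfl | rfl); exacts [KL.mem 0, e1 ▸ mul_mem (KL.mem 4) (KL.mem 5)]
    · rintro _ (rfl | rfl); exacts [KL.mem 2, e2 ▸ mul_mem (mul_mem (KL.mem 5) (KL.mem 4)) (KL.mem 7)]
  have hQ' : ∀ u, u ∈ Q ↔ u ∈ genL (lets x y p r q s z' 1 1 1) (List.range 9) ∧ u * u * (u * u) = 1 := fun u => by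
    have T := L.two
    rw [hKK] at T
    rw [hKK, hQ]
    refine ⟨fun ⟨w, hw, e⟩ => e ▸ ⟨w.2, ?_⟩, fun ⟨h, h'⟩ => ⟨⟨u, h⟩, ?_, rfl⟩⟩
    · obtain ⟨n, hn⟩ := Solv.isPGroup_pCore 2 _ ⟨w, hw⟩
      have e4 : (w.1 * w.1 * (w.1 * w.1)) = w.1 ^ 4 := by rw [show 4 = 2 + 2 from rfl, pow_add, pow_two]
      refine Invol.eq_one_of_odd_of_pow_two_pow (n := n) (Odd.of_dvd_nat (by decide : Odd 3)
        (orderOf_dvd_of_pow_eq_one (by rw [pow_three']; exact (T w.1 w.2).1.1))) ?_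
      change (w.1 * w.1 * (w.1 * w.1)) ^ 2 ^ n = 1
      rw [e4, ← pow_mul, mul_comm, pow_mul, show w.1 ^ 2 ^ n = 1 from congrArg (fun t => t.1.1) hn, one_pow]
    · let N : Subgroup ↥(H₁ ⊔ H₂) :=
        { carrier := {w | w.1 * w.1 * (w.1 * w.1) = 1}
          one_mem' := by simp
          mul_mem' := fun {a b} ha hb => (((T a.1 a.2).2 ha).2.2.2.2 b.1 b.2 hb).1
          inv_mem' := fun {a} ha => by
            change a.1⁻¹ * a.1⁻¹ * (a.1⁻¹ * a.1⁻¹) = 1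
            rw [← _root_.mul_inv_rev, ← _root_.mul_inv_rev, show a.1 * a.1 * (a.1 * a.1) = 1 from ha, inv_one] }
      exact le_sSup (s := {N : Subgroup ↥(H₁ ⊔ H₂) | N.Normal ∧ IsPGroup 2 N}) (a := N) ⟨⟨fun w hw g => by
        change κ g.1 w.1 * κ g.1 w.1 * (κ g.1 w.1 * κ g.1 w.1) = 1
        simp only [← map_mul]; rw [show w.1 * w.1 * (w.1 * w.1) = 1 from hw, map_one]⟩,
        fun w => ⟨2, Subtype.ext (Subtype.ext (by
          rw [show 2 ^ 2 = 2 + 2 from rfl, pow_add, pow_two]; exact w.2))⟩⟩ h'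
  let ι := (centralizer ({z} : Set G)).subtype
  have hl : ∀ j, lets (ι x) (ι y) (ι p) (ι r) (ι q) (ι s) z 1 1 1 j = ι (lets x y p r q s z' 1 1 1 j) := fun j => by
    rcases lt_or_ge j 9 with h | h
    · interval_cases j
      exacts [rfl, rfl, rfl, rfl, rfl, rfl, rfl, rfl, ez.symm]
    · rw [lets_ge'' _ _ _ _ _ _ _ j h, lets_ge'' _ _ _ _ _ _ _ j h, map_one]
  have L' : KL (ι x) (ι y) (ι p) (ι r) (ι q) (ι s) z := ⟨fun w hw => by
    rw [funext hl, ← map_ev, L.rels w hw, map_one], z1⟩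
  have hQ'' : ∀ u, u ∈ Q.map ι ↔ u ∈ genL (lets (ι x) (ι y) (ι p) (ι r) (ι q) (ι s) z 1 1 1) (List.range 9) ∧
      u * u * (u * u) = 1 := fun u => by
    rw [funext hl, ← map_genL']
    exact ⟨fun ⟨w, hw, e⟩ => e ▸ ⟨⟨w, ((hQ' w).1 hw).1, rfl⟩, congrArg ι ((hQ' w).1 hw).2⟩,
      fun ⟨⟨w, hw, e⟩, h⟩ => ⟨w, (hQ' w).2 ⟨hw, inj (by rw [← e] at h; exact h)⟩, e⟩⟩
  have E0 := L'.es hQ''
  have E : LE (Q.map ι) z := ⟨E0, fun u hu => E0.cen u ⟨⟨u, memC.2 (hu z E0.zQ)⟩,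
      (hF ▸ S1265.result : centralizer (Q : Set (centralizer ({z} : Set G))) ≤ Q) fun w hw => Subtype.ext (hu w ⟨w, hw, rfl⟩).symm.eq, rfl⟩ hu,
    fun u hu => mem_normalizer_fintype fun _ ⟨w, hw, e⟩ => e ▸ ⟨_, hN.conj_mem w hw ⟨u, memC.2 hu⟩, rfl⟩⟩
  have cl : ∀ g : G, κ g z ∈ Q.map ι → κ g z ≠ z → ∃ k, Commute k z ∧ κ k (ι s) = κ g z := fun g h h' => by
    have T := L'.two _ ((hQ'' _).1 h).1
    rcases (T.2 ((hQ'' _).1 h).2).2.2.2.1 (by rw [← map_mul, zz, map_one]) with e | e | ⟨k, hk, e⟩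
    exacts [absurd (cj_one.1 e) z1, absurd e h', ⟨k, (L'.two k hk).1.2, cj_eq.2 e⟩]
  obtain ⟨g, ⟨hq, hq'⟩, hne⟩ := hnwc
  obtain ⟨k1, c1, f1⟩ := cl g ⟨_, hq', rfl⟩ hne
  have gz : κ (k1⁻¹ * g) z = ι s := by rw [cj_mul, cj_inv f1]
  generalize k1⁻¹ * g = g at gz
  obtain ⟨hp, hr, hq, hs, -⟩ := L'.memQ hQ''
  obtain ⟨⟨-, -, -, ss, -⟩, ⟨-, qs, -, ps, -, rs, s1⟩, -, -, -, -, -, -, pr⟩ := L'.eqs
  have sz : ι s ≠ z := fun h => z1 (by
    rw [h, (E.zc _ hq).eq, zz, one_mul] at qs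
    simpa using qs)
  have sy : ∀ g, κ g z = ι s → z ∈ (Q.map ι).map (κ g).toMonoidHom := fun g gz =>
    E.sym' (g := g) (gz ▸ hs :) hp hr (gz ▸ ps :) (gz ▸ rs :) pr
  obtain ⟨k2, c2, f2⟩ := cl g⁻¹ (by simpa using Invol.mem_map_conj_iff.1 (sy g gz))
    fun h => sz (by rw [← gz, ← h, ← cj_mul, mul_inv_cancel, map_one, MulAut.one_apply, h])
  have gz' : κ (g * k2) z = ι s := by rw [cj_mul, cj_eq.2 c2.eq, gz]
  refine ⟨_, _, _, _, _, _, L'.exists_amal hQ'' E hH gz' (by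
    rw [cj_mul, f2, ← cj_mul, mul_inv_cancel, map_one, MulAut.one_apply]) fun w h1 h2 => ?_⟩
  have c4 := hQQg (g * k2) (gz' ▸ hs :) (gz' ▸ sz :)
  have P : Pair (Q.map ι) ((Q.map ι).map (κ (g * k2)).toMonoidHom) z (ι s) := ⟨E, hs, sy _ gz', sz, _, gz', rfl⟩
  have := eq_of_le_of_card_ge (le_inf P.V_le (Pair.V_comm.ge.trans P.symm.V_le)) (c4.trans
    (Invol.isKleinFour_closure zz ss P.sz.symm z1 s1 sz.symm).card_four.symm).le
  exact P.mem_V.1 (this ▸ ⟨h1, Invol.mem_map_conj_iff.2 (by rwa [MulAut.conj_apply, inv_inv] at h2)⟩)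

end Cfsg.Agent.U4R
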