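import Cfsg.Agent.U4R.Three
import Cfsg.Agent.HJ.Top
import Cfsg.Agent.Spor.J.U4U
import Cfsg.Agent.Known.U43Eq
import Cfsg.Agent.S0283

/-! Recognition of `U4(3)` from the amalgam (helper24): `Amal.three` (the extra relation), `uU` (the letters in the
model), `Amal.main` (an isomorphism from the model matching the letters), `Amal.one_class`. -/

set_option autoImplicit false
set_option maxRecDepth 100000

namespace Cfsg.Agent.U4R

open Cfsg.Agent.HJ Cfsg.Agent.Comp Cfsg.Agent.Spor Cfsg.Agent.Known Subgroup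

variable {G : Type*} [Group G]

theorem upH {g : ℕ → G} (he : g 255 = 1) (hg : ∀ r ∈ JU4H.rels, ev g r = 1) : CardLe (genL g (List.range 11)) 1152 :=
  cardLe_bot.of_relIndex (JU4H.relIndex_le he hg fun _ h => nomatch h)

theorem upU {g : ℕ → G} (he : g 255 = 1) (hg : ∀ r ∈ JU4U.rels, ev g r = 1) :
    CardLe (genL g (List.range 12)) 3265920 :=
  (upH he (rels_of_sub hg (by decide +kernel))).of_relIndex (JU4U.relIndex_le he hg fun _ hw =>
    genW_le_genL (by decide) (mem_genW g hw))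

/-- The letters in the model of `U4(3)`. -/
def dU : List (List ℕ) := [[7, 4, 7, 3, 1, 7, 5, 7], [7, 4, 7, 0, 2, 7, 5, 7], [5, 6, 1, 6, 7, 6, 5, 7], [7, 4, 6, 7, 6, 0, 6, 4],
  [7, 2, 1, 4, 7, 6, 1, 2, 7, 4], [7, 0, 3, 7, 2, 1, 7], [2, 6, 2, 0, 2, 7, 0, 6, 5, 7, 4], [5, 7, 1, 2, 6, 2, 4, 6, 7, 0],
  [1, 5, 2, 7, 1, 3, 4], [0, 5, 6, 7, 6, 4, 1], [0, 7, 5, 1, 6, 7, 4, 7, 4, 1], [1, 7, 6, 3, 6, 7, 3, 7, 6, 0]]

/-- The letters in the model of `U4(3)`. -/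
noncomputable def uU : ℕ → U43P.G := renG U43P.g dU

theorem chkU {ws : List (List ℕ)} (h : andB (chkLet (List.range 8) ws) (chkId U43P.nets 280 9 ws) = true) :
    ∀ w ∈ ws, ev U43P.g w = 1 :=
  U43P.rep.ev_eq_one (subtype_injective _) ((andB_eq_true _ _).1 h).1
    (ev_eq_one_of_chkId U43P.ok (by decide) ((andB_eq_true _ _).1 h).2)

theorem idU {ws : List (List ℕ)}
    (h : andB (chkLet (List.range 8) (ws.map (renW dU))) (chkId U43P.nets 280 9 (ws.map (renW dU))) = true) :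
    ∀ w ∈ ws, ev uU w = 1 := renG_rels (chkU h)

theorem topU : genL uU (List.range 12) = ⊤ := top_le_iff.1 (U43P.rep.top ▸
  le_genL_ren (bk := [[11, 5, 3, 1, 11, 3, 11, 0, 2, 5, 11], [11, 5, 3, 1, 11, 2, 11, 0, 2, 5, 11],
    [6, 11, 3, 1, 4, 5, 11, 3, 11, 1, 9], [2, 6, 11, 1, 11, 1, 7, 10, 0, 11, 6], [2, 6, 11, 1, 2, 11, 1, 7, 11, 3, 7],
    [2, 6, 11, 3, 11, 1, 2, 9, 11, 0, 2], [7, 1, 11, 3, 5, 0, 11, 1, 3], [0, 11, 1, 11, 0, 3, 11, 0, 11, 4, 1, 8]])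
    (by decide +kernel) (chkU (by decide +kernel)))

theorem homU {g : ℕ → G} (he : g 255 = 1) (hg : ∀ r ∈ JU4U.rels, ev g r = 1) :
    ∃ ρ : U43P.G →* G, (∀ i ∈ List.range 12, ρ (uU i) = g i) ∧ ρ.range = genL g (List.range 12) :=
  exists_hom_of_up topU U43P.card (upU (prG_255 (renG_255 _ (by decide)) he) (prG_rels (idU (by decide +kernel)) hg))

theorem simpleU : IsSimpleGroup U43P.G := by
  let := Fintype.ofFinite (GaloisField 3 2)
  have c : Fintype.card (GaloisField 3 2) = 9 := by rw [← Nat.card_eq_fintype_card, GaloisField.card 3 2 (by decide)]; rfl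
  obtain ⟨e⟩ := U43T.equiv c
  have := S0283.result (F := GaloisField 3 2) (q := 3) c 4 (by decide) (by decide)
  exact e.symm.isSimpleGroup

/-- A subgroup containing `C(z)` and a Sylow 2-subgroup and controlling fusion of the product closed class of `z`. -/
theorem eq_top_of_pc [Finite G] {z s t : G} {K : Subgroup G} (hz : orderOf z = 2) (hK : centralizer {z} ≤ K)
    (fus : ∀ u ∈ K, IsConj z u → ∃ k ∈ K, κ k z = u)
    (hm : ∀ w, Commute w z → IsConj z w → w ≠ z → IsConj z (z * w)) (hs : IsConj z s) (ht : IsConj z t)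
    (h2 : (s * t) ^ 4 = 1) (hn : ¬ Commute s t) : K = ⊤ := by
  have two : ∀ u, IsConj z u → orderOf u = 2 := fun u hu => (Invol.orderOf_of_isConj hu).symm.trans hz
  have un : ∀ c g : G, κ c z • (g : G ⧸ K) = g → (g : G ⧸ K) = c := fun c g h => by
    obtain ⟨k, hk, f⟩ := fus _ (fix_iff.1 h) (by rw [← cj_mul]; exact isConj_cj _ _)
    rw [← cj_mul] at f
    have := hK (memC.2 (cj_eq.1 ((cj_mul _ _ _).trans (cj_inv f))))
    have := mul_mem hk this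
    rw [mul_inv_cancel_left] at this
    exact QuotientGroup.eq.2 this
  have P : ZD.PC G (G ⧸ K) {u | IsConj z u} := by
    refine ⟨two, fun u hu g => IsConj.trans hu (isConj_cj g u), fun u hu => ?_, fun u hu p q hp hq => ?_,
      fun u hu v hv hc hne => ?_⟩ <;> obtain ⟨c, rfl⟩ := isConj_iff.1 hu
    · exact ⟨c, fix_iff.2 (by rw [cj_inv (g := c) (p := z) (q := c * z * c⁻¹) rfl]; exact hK (memC.2 rfl))⟩
    · obtain ⟨p, rfl⟩ := QuotientGroup.mk_surjective p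
      obtain ⟨q, rfl⟩ := QuotientGroup.mk_surjective q
      exact (un c p hp).trans (un c q hq).symm
    · obtain ⟨w, rfl⟩ := (κ c).surjective v
      change IsConj z (κ c z * κ c w)
      rw [← map_mul]
      exact (hm w (cj_comm.1 hc.eq).symm (IsConj.trans hv (isConj_cj c w).symm) fun e => hne (by rw [e]; rfl)).trans
        (isConj_cj c _)
  refine top_le_iff.1 fun g _ => ?_
  by_contra hg
  have h1 : κ (1 : G) z • ((1 : G) : G ⧸ K) = (1 : G) := fix_iff.2 (by simpa using hK (memC.2 rfl))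
  exact hn (P.comm_of_two (isConj_cj 1 z) h1 (isConj_cj g z)
    (fun h => hg (by simpa using QuotientGroup.eq.1 (un g 1 h))) hs ht ⟨2, h2⟩)

theorem into_cent [Finite G] {z : G} {K : Subgroup G} {n : ℕ} (hc : 2 ^ n ∣ Nat.card (centralizer ({z} : Set G)))
    (hK : centralizer {z} ≤ K) (hodd : ¬ 2 ^ (n + 1) ∣ Nat.card K) {u : G} (hu : u ∈ K) (h2 : u * u = 1) :
    ∃ g ∈ K, κ g u ∈ centralizer {z} := by
  obtain ⟨P, hP⟩ := Sylow.exists_subgroup_card_pow_prime (G := centralizer ({z} : Set G)) 2 hc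
  obtain ⟨g, hg, h⟩ := Comp.exists_conj_mem_sylow (P := P.map (centralizer {z}).subtype) (j := 1) Nat.prime_two
    ((map_subtype_le P).trans hK) (by rw [card_map_of_injective (subtype_injective _), hP]) rfl hodd hu
    (by rw [pow_one, pow_two, h2])
  exact ⟨g, hg, map_subtype_le P h⟩

namespace Amal

open F HJ.F

variable {x y p r q s z a b v : G} (M : Amal x y p r q s z a b v)
include M

/-- terms -/
abbrev tc : Tm := 1 * F.x * F.y * F.s * F.q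
/-- terms -/
abbrev td : Tm := 1 * F.x * F.q * F.s * F.Y
/-- terms -/
abbrev p8 (u : Tm) : Tm := u * u * (u * u) * (u * u * (u * u))
/-- formulas -/
abbrev in3 (c u : Tm) : Fm := (u ≐ 1) ⋎ (u ≐ c) ⋎ (u ≐ c * c)
/-- formulas -/
abbrev inD (u : Tm) : Fm := cm u tc ⋏ cm u td ⋏ (u * u * u ≐ 1)

theorem three [Finite G] : ev (lets x y p r q s z a b v) ([6, 11, 5, 1, 3, 11, 6] ++ [1, 6, 7, 2] ++ [6, 11, 2, 0, 5, 11, 6] ++
    [1, 6, 7, 2] ++ [6, 11, 5, 1, 3, 11, 6] ++ [3, 7, 6, 0] ++ [6, 11, 2, 0, 5, 11, 6] ++ [3, 7, 6, 0]) = 1 := by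
  obtain ⟨f1, f2, f3, f4, f5, f6, f7, f8, f9⟩ := M.dec (cm tc F.z ⋏ cm td F.z ⋏ cm F.z F.a ⋏ (inD tc ⋏ inD td) ⋏ ne tc 1 ⋏
    ne (td * td) 1 ⋏ cm F.a tc ⋏ (F.a * td ≐ 1 * F.y * F.s * F.q * F.X * F.a) ⋏ (td * (1 * F.y * F.s * F.q * F.X) ≐ 1))
    (by decide +kernel)
  set g := lets x y p r q s z a b v
  have i1 : ev g [1, 6, 7, 2] = (ev g [3, 7, 6, 0])⁻¹ := eq_inv_of_mul_eq_one_right f9
  have i2 : ev g [6, 11, 5, 1, 3, 11, 6] = (ev g [6, 11, 2, 0, 5, 11, 6])⁻¹ := eq_inv_of_mul_eq_one_right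
    ((ev_append g _ _).symm.trans (M.idN [4, 9, 3, 1, 9, 4, 4, 9, 0, 3, 9, 4] [] (by decide +kernel)))
  have N : ∀ u u' w w' : List ℕ, andB (chkLet (List.range 10) [u ++ u', w ++ w'])
      (Nat.beq (appW JU4N.nets (u ++ u') 1) (appW JU4N.nets (w ++ w') 1)) = true →
      ev g (renW dN u') * ev g (renW dN u) = ev g (renW dN w') * ev g (renW dN w) := fun u u' w w' h => by
    have := M.idN _ _ h
    rwa [renW, renW, List.flatMap_append, List.flatMap_append, ev_append, ev_append] at this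
  have T : Commute (ev g [3, 7, 6, 0]) (κ (ev g [6, 11, 2, 0, 5, 11, 6]) (ev g [3, 7, 6, 0])) := by
    refine three_abs (c := ev g [6, 7, 2, 0]) (n := ev g [2, 0, 11, 5, 1, 3]) (t := a) M.zz M.z1 M.eqs.2.2.2.1 f1 f2 f3 f4
      f5 f6 f7 (i1 ▸ cj_eq.2 f8) (N [4, 5, 0] [4, 9, 0, 3, 9, 4] [4, 9, 0, 3, 9, 4] [4, 5, 0] (by decide +kernel)) ?_ ?_
      (cj_eq.2 (N [4, 5, 0] [0, 9, 3, 1] [0, 9, 3, 1] [4, 9, 0, 3, 9, 4] (by decide +kernel))) ?_ ?_ ?_ ?_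
    · have := N [6] [4, 9, 0, 3, 9, 4] [4, 9, 0, 3, 9, 4] [7] (by decide +kernel)
      change _ * (1 * z) = 1 * a * _ at this
      rw [one_mul, one_mul] at this; exact cj_eq.2 this
    · have := N [7, 6] [4, 9, 0, 3, 9, 4] [4, 9, 0, 3, 9, 4] [6] (by decide +kernel)
      change _ * (1 * z * a) = 1 * z * _ at this
      rw [one_mul] at this; exact cj_eq.2 this
    · rw [← ev_append]
      exact cj_eq.2 (N [4, 9, 0, 3, 9, 4] [0, 9, 3, 1] [0, 9, 3, 1] [4, 5, 0, 4, 5, 0] (by decide +kernel))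
    · exact M.dec (.all (cm u0 tc ⟹ ((u0 * u0 * u0 * (u0 * u0 * u0) ≐ 1) ⋏ (cm u0 td ⟹ (u0 * u0 ≐ 1) ⟹ (u0 ≐ 1) ⋎ (u0 ≐ F.z))) ⋏
        ((u0 * u0 * u0 ≐ 1) ⟹ in3 tc u0 ⋎ in3 tc (u0 * td) ⋎ in3 tc (u0 * u0 * td)))) (by decide +kernel)
    · intro h hh
      have := M.dec (.all ((p8 (u0 * u0 * u0) ≐ 1) ⋏
        ((u0 * u0 * u0 ≐ 1) ⟹ .all ((u1 * tc ≐ u0 * u1) ⟹ inD u0 ⟹ .all ((u2 * td ≐ u0 * u2) ⟹ inD u0 ⟹ inD u2)))))
        (by decide +kernel) h hh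
      refine ⟨?_, this.2⟩
      have e : h * h * h * (h * h * h) * (h * h * h * (h * h * h)) * (h * h * h * (h * h * h) * (h * h * h * (h * h * h))) = 1 :=
        this.1
      simpa only [pow_succ, pow_zero, one_mul, mul_assoc] using e
    · exact M.dec (.all (inD u0 ⟹ .all (inD u0 ⟹ cm u0 u1 ⋏ (ne u1 1 ⟹ .all ((u0 * u2 ≐ u1 * u0) ⟹ ne (u0 * u1) (u2 * u2 * u0)) ⋏
        (.not (in3 u1 u0) ⟹ (in3 u1 tc ⋎ in3 u1 (u0 * tc) ⋎ in3 u1 (u0 * u0 * tc)) ⋏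
          (in3 u1 td ⋎ in3 u1 (u0 * td) ⋎ in3 u1 (u0 * u0 * td))))))) (by decide +kernel)
  simp only [ev_append, i1, i2]
  have := T.eq
  generalize ev g [3, 7, 6, 0] = d at *
  generalize ev g [6, 11, 2, 0, 5, 11, 6] = u at *
  rw [show d * (u * (d * (u⁻¹ * (d⁻¹ * (u * (d⁻¹ * u⁻¹)))))) = d * κ u d * (κ u d * d)⁻¹ by simp [mul_assoc], this,
    mul_inv_cancel]

theorem relsU [Finite G] : ∀ w ∈ JU4U.rels, ev (lets x y p r q s z a b v) w = 1 :=
  rels_of_sub (List.forall_mem_cons.2 ⟨M.three, List.forall_mem_cons.2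
    ⟨M.idN [9, 0, 9, 0, 9, 0, 9, 0] [] (by decide +kernel), List.forall_mem_append.2 ⟨M.base, M.relW⟩⟩⟩) (by decide +kernel)

theorem le_G0 : centralizer {z} ≤ genL (lets x y p r q s z a b v) (List.range 12) := by
  rw [← M.cen]
  refine genL_le fun i hi => ?_
  have h := List.mem_range.1 hi
  have := mem_genL (lets x y p r q s z a b v) (x := i) (xs := List.range 12) (List.mem_range.2 (by omega))
  interval_cases i <;> exact this

theorem fus {K : Subgroup G} (hK : centralizer {z} ≤ K) (hv : v ∈ K) {u : G} (hu : u ∈ centralizer {z}) (h2 : u * u = 1)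
    (h1 : u ≠ 1) : ∃ k ∈ K, κ k z = u := by
  have c := M.dec (.all ((u0 * u0 ≐ 1) ⟹ (u0 ≐ 1) ⋎ (u0 ≐ F.z) ⋎ .ex (u0 * F.s ≐ u1 * u0) ⋎ .ex (u0 * (F.p * F.a) ≐ u1 * u0) ⋎
    .ex (u0 * (F.r * F.b) ≐ u1 * u0)) ⋏ .ex (u0 * F.s ≐ F.p * u0) ⋏ .ex (u0 * F.s ≐ F.r * u0) ⋏ cm F.q F.z) (by decide +kernel)
  obtain ⟨c1, ⟨k1, m1, c2⟩, ⟨k2, m2, c3⟩, c4⟩ := c
  have e : κ (q * v) z = s := by rw [cj_mul, M.vz]; exact cj_eq.2 M.eqs.2.2.2.2.2.1
  have mq : q * v ∈ K := mul_mem (hK (memC.2 c4)) hv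
  rcases c1 u hu h2 with h | h | ⟨k, m, h⟩ | ⟨k, m, h⟩ | ⟨k, m, h⟩
  · exact absurd h h1
  · exact ⟨1, one_mem _, by rw [map_one]; exact h.symm⟩
  · exact ⟨k * (q * v), mul_mem (hK m) mq, by rw [cj_mul, e]; exact cj_eq.2 h⟩
  · exact ⟨k * (v * (k1 * (q * v))), mul_mem (hK m) (mul_mem hv (mul_mem (hK m1) mq)), by
      rw [cj_mul, cj_mul, cj_mul, e, cj_eq.2 (show k1 * s = p * k1 from c2), M.vp.1]; exact cj_eq.2 h⟩
  · exact ⟨k * (v * (k2 * (q * v))), mul_mem (hK m) (mul_mem hv (mul_mem (hK m2) mq)), by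
      rw [cj_mul, cj_mul, cj_mul, e, cj_eq.2 (show k2 * s = r * k2 from c3), M.vr.1]; exact cj_eq.2 h⟩

theorem fus' [Finite G] {K : Subgroup G} (hK : centralizer {z} ≤ K) (hv : v ∈ K) (hc : Nat.card K = 3265920) {u : G}
    (hu : u ∈ K) (h2 : orderOf u = 2) : ∃ k ∈ K, κ k z = u := by
  obtain ⟨g, hg, h⟩ := into_cent (n := 7) (by rw [M.card]; decide) hK (by rw [hc]; decide) hu (Invol.mul_self_of h2)
  obtain ⟨k, hk, e⟩ := M.fus hK hv h (by rw [← map_mul, Invol.mul_self_of h2, map_one])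
    fun e => Invol.ne_one_of h2 (cj_one.1 e)
  exact ⟨g⁻¹ * k, mul_mem (inv_mem hg) hk, by rw [cj_mul, e, cj_inv rfl]⟩

theorem main [Finite G] : ∃ ρ : U43P.G ≃* G, ∀ i < 12, ρ (uU i) = lets x y p r q s z a b v i := by
  obtain ⟨ρ, h1, h2⟩ := homU (lets_ge x y p r q s z a b v 255 (by decide)) M.relsU
  have := simpleU
  have hi := inj_of_simple ρ (u := uU 8) (by rw [h1 8 (by decide)]; exact M.z1)
  have hz : orderOf z = 2 := Invol.orderOf_two_iff.2 ⟨M.zz, M.z1⟩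
  have hv : v ∈ genL (lets x y p r q s z a b v) (List.range 12) := mem_genL _ (x := 11) (by decide)
  have c : Nat.card (genL (lets x y p r q s z a b v) (List.range 12)) = 3265920 := by
    rw [← h2, ← Nat.card_congr (MonoidHom.ofInjective hi).toEquiv, U43P.card]
  obtain ⟨f1, f2, f3, f4, f5, f6, f7, f8⟩ := M.dec (cm F.s F.z ⋏ cm F.q F.z ⋏ (F.s * F.s ≐ 1) ⋏ (F.q * F.q ≐ 1) ⋏ ne F.s 1 ⋏
    ne F.q 1 ⋏ (F.s * F.q * (F.s * F.q) * (F.s * F.q * (F.s * F.q)) ≐ 1) ⋏ .not (cm F.s F.q)) (by decide +kernel)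
  have A : ∀ u ∈ centralizer {z}, u * u = 1 → u ≠ 1 → IsConj z u := fun u hu h h' =>
    let ⟨k, _, e⟩ := M.fus le_top (mem_top v) hu h h'; e ▸ isConj_cj k z
  have T := eq_top_of_pc (s := s) (t := q) hz M.le_G0 (fun u hu h => M.fus' M.le_G0 hv c hu
    ((Invol.orderOf_of_isConj h).symm.trans hz)) (fun w hw h hne => A _ (memC.2 (Commute.mul_left rfl hw)) (by
      rw [← pow_two, hw.symm.mul_pow, pow_two, pow_two, M.zz, Invol.mul_self_of ((Invol.orderOf_of_isConj h).symm.trans hz),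
        one_mul]) fun e => hne ((eq_inv_of_mul_eq_one_right e).trans (inv_of_sq M.zz)))
    (A s (memC.2 f1) f3 f5) (A q (memC.2 f2) f4 f6) (by rw [show 4 = 2 + 2 from rfl, pow_add, pow_two]; exact f7) f8
  exact ⟨MulEquiv.ofBijective ρ ⟨hi, MonoidHom.range_eq_top.1 (h2.trans T)⟩, fun i h => h1 i (List.mem_range.2 h)⟩

theorem one_class [Finite G] : Nat.card G = 3265920 ∧ ∀ u, orderOf u = 2 → IsConj z u := by
  obtain ⟨ρ, -⟩ := M.main
  have c := (Nat.card_congr ρ.toEquiv).symm.trans U43P.card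
  exact ⟨c, fun u hu => let ⟨k, _, e⟩ := M.fus' le_top (mem_top v) (by rw [card_top, c]) (mem_top u) hu; e ▸ isConj_cj k z⟩

end Amal

end Cfsg.Agent.U4R
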